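import Groth.Agent.H11Aff.WeakAssIff
import Groth.Agent.H11Tilde.TransposeCover
import Groth.Agent.H02CA.WeakAssField
import Groth.Prelude.Def_CurvBase

/-!
# Weakly associated points descend from a field extension
-/

set_option autoImplicit false
set_option linter.style.haveILetI false

noncomputable section

universe u

open CategoryTheory Limits AlgebraicGeometry Opposite TopologicalSpace

namespace Groth.Agent.H11WeakAss

/-- The ring level statement, with the algebra structures read off a pushout square. -/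
theorem comap_mem_of_isPushout (k K : Type u) [Field k] [Field K] [Algebra k K] {R RK : CommRingCat.{u}}
    (φ : CommRingCat.of k ⟶ R) (a : R ⟶ RK) (b : CommRingCat.of K ⟶ RK)
    (h : IsPushout φ (CommRingCat.ofHom (algebraMap k K)) a b)
    (M : Type u) [AddCommGroup M] [Module R M] (N : Type u) [AddCommGroup N] [Module RK N]
    (hM : letI := a.hom.toAlgebra
      letI := Module.compHom N a.hom
      haveI : IsScalarTower R RK N := .of_algebraMap_smul fun _ _ => rfl
      ∃ p : M →ₗ[R] N, IsBaseChange RK p)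
    (q : Ideal RK) [q.IsPrime] (hq : q ∈ FlatCA.weakAss RK N) :
    q.comap a.hom ∈ FlatCA.weakAss R M := by
  letI := a.hom.toAlgebra
  letI := Module.compHom N a.hom
  haveI : IsScalarTower R RK N := .of_algebraMap_smul fun _ _ => rfl
  letI := φ.hom.toAlgebra
  letI := b.hom.toAlgebra
  letI := (a.hom.comp φ.hom).toAlgebra
  haveI : IsScalarTower k R RK := IsScalarTower.of_algebraMap_eq' rfl
  haveI : IsScalarTower k K RK := IsScalarTower.of_algebraMap_eq fun x => congr($(h.w).hom x)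
  have hpo : Algebra.IsPushout k K R RK := (CommRingCat.isPushout_iff_isPushout).mp h.flip
  obtain ⟨p, hp⟩ := hM
  exact H02CA.WeakAssField.comap_mem_weakAss_of_isBaseChange k K p hp q hq

variable (k : Type u) [Field k] (K : Type u) [Field K] [Algebra k K] (X : Scheme.{u})
  [X.Over (Spec (CommRingCat.of k))]

theorem isWeakAssPoint_of_bc (F : X.Modules) (hF : Coh.IsQCoh F) (y : ↥(Curv2.bc k X K))
    (hy : Curv2.IsWeakAssPoint ((Scheme.Modules.pullback (Curv2.bcFst k X K)).obj F) y) :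
    Curv2.IsWeakAssPoint F (Curv2.bcFst k X K y) := by
  obtain ⟨_, ⟨V, hV, rfl⟩, hxV, -⟩ :=
    X.isBasis_affineOpens.exists_subset_of_mem_open (Set.mem_univ (Curv2.bcFst k X K y)) isOpen_univ
  let g := Curv2.bcFst k X K
  haveI : IsAffineHom g := MorphismProperty.pullback_fst _ _ inferInstance
  have hV' : IsAffineOpen (g ⁻¹ᵁ V) := hV.preimage g
  have sq : IsPullback g (Curv2.bcSnd k X K) (X ↘ Spec (CommRingCat.of k))
      (Spec.map (CommRingCat.ofHom (algebraMap k K))) := IsPullback.of_hasPullback _ _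
  have po := (isIso_pushoutSection_iff sq (US := ⊤) (UT := ⊤) (UX := V) (UY := g ⁻¹ᵁ V)
    le_top le_top (by simp)).mp
    (isIso_pushoutSection_of_isAffineOpen sq le_top le_top (by simp) (isAffineOpen_top _) (isAffineOpen_top _) hV)
  have po' : IsPushout ((Scheme.ΓSpecIso (CommRingCat.of k)).inv ≫
      (X ↘ Spec (CommRingCat.of k)).appLE ⊤ V le_top) (CommRingCat.ofHom (algebraMap k K)) (g.app V)
      ((Scheme.ΓSpecIso (CommRingCat.of K)).inv ≫ (Curv2.bcSnd k X K).appLE ⊤ (g ⁻¹ᵁ V) le_top) := by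
    refine po.of_iso (Scheme.ΓSpecIso (CommRingCat.of k)) (Iso.refl _) (Scheme.ΓSpecIso (CommRingCat.of K))
      (Iso.refl _) ?_ ?_ ?_ ?_
    · simp
    · rw [← Scheme.ΓSpecIso_naturality]
      simp [Scheme.Hom.app_eq_appLE]
    · simp [Scheme.Hom.app_eq_appLE]
    · simp
  letI := (g.app V).hom.toAlgebra
  letI := Module.compHom Γ((Scheme.Modules.pullback g).obj F, g ⁻¹ᵁ V) (g.app V).hom
  haveI : IsScalarTower Γ(X, V) Γ(Curv2.bc k X K, g ⁻¹ᵁ V) Γ((Scheme.Modules.pullback g).obj F, g ⁻¹ᵁ V) :=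
    .of_algebraMap_smul fun _ _ => rfl
  let p := Groth.Agent.H11Tilde.TransposeCover.appLin g ((Scheme.Modules.pullbackPushforwardAdjunction g).unit.app F) V
  have hp := Groth.Agent.H11Tilde.TransposeCover.isBaseChange_unit g hF hV hV' p (fun _ => rfl)
  obtain ⟨s, hs⟩ := (H11Aff.isWeakAssPoint_iff_minimal _ (H29Fitt.isQCoh_pullback g F hF) hV' ⟨y, hxV⟩).1 hy
  have hq : (hV'.primeIdealOf ⟨y, hxV⟩).asIdeal ∈
      FlatCA.weakAss Γ(Curv2.bc k X K, g ⁻¹ᵁ V) Γ((Scheme.Modules.pullback g).obj F, g ⁻¹ᵁ V) :=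
    ⟨s, by rw [Submodule.annihilator_span_singleton]; exact hs⟩
  have hx := comap_mem_of_isPushout k K _ _ _ po' Γ(F, V) _ ⟨p, hp⟩ _ hq
  have hcomap : (hV'.primeIdealOf ⟨y, hxV⟩).asIdeal.comap (g.app V).hom =
      (hV.primeIdealOf ⟨g y, hxV⟩).asIdeal := by
    ext a
    rw [Ideal.mem_comap, H29Blow.mem_primeIdealOf_iff, H29Blow.mem_primeIdealOf_iff]
    refine not_congr ?_
    show IsUnit ((Curv2.bc k X K).presheaf.germ (g ⁻¹ᵁ V) y hxV (g.app V a)) ↔ _
    rw [← Scheme.Hom.germ_stalkMap_apply g V y hxV]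
    exact isUnit_map_iff (g.stalkMap y).hom _
  rw [hcomap] at hx
  obtain ⟨m, hm⟩ := hx
  refine (H11Aff.isWeakAssPoint_iff_minimal F hF hV ⟨g y, hxV⟩).2 ⟨m, ?_⟩
  rwa [Submodule.annihilator_span_singleton] at hm

end Groth.Agent.H11WeakAss
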